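import Groth.Agent.Lib.CanElt.NIT
import Mathlib

/-! # Systems of parameters through a given element -/

set_option autoImplicit false
universe u

open IsLocalRing

namespace Groth.Agent.SopExt1

theorem exists_sop_extending {R : Type u} [CommRing R] [IsNoetherianRing R] [IsLocalRing R]
    {d : ℕ} (hd : ringKrullDim R = d) {f : R} (hf : f ∈ maximalIdeal R)
    (hmin : ∀ p ∈ minimalPrimes R, f ∉ p) (k : ℕ) :
    ∃ g : Fin (d - 1) → R, (∀ i, g i ∈ maximalIdeal R ^ k) ∧ (∀ i, g i ∈ maximalIdeal R) ∧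
      maximalIdeal R ≤ (Ideal.span (insert f (Set.range g))).radical := by
  let Q := R ⧸ Ideal.span {f}
  haveI : Nontrivial Q := Ideal.Quotient.nontrivial_iff.mpr fun h =>
    (maximalIdeal.isMaximal R).ne_top (top_le_iff.mp (h ▸ (Ideal.span_singleton_le_iff_mem _).2 hf))
  haveI : IsLocalRing Q := IsLocalRing.of_surjective' _ Ideal.Quotient.mk_surjective
  have hle : ringKrullDim Q ≤ ((d - 1 : ℕ) : WithBot ℕ∞) := by
    rw [ringKrullDim_quotient]
    refine iSup_le fun s => ?_
    obtain ⟨p, hp, hps⟩ := Ideal.exists_minimalPrimes_le (bot_le : (⊥ : Ideal R) ≤ s.head.1.asIdeal)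
    have hlt : (⟨p, hp.1.1⟩ : PrimeSpectrum R) < s.head.1 := lt_of_le_of_ne hps fun e =>
      hmin p hp (by rw [show p = s.head.1.asIdeal from congrArg PrimeSpectrum.asIdeal e]; exact s.head.2 (Ideal.subset_span rfl))
    let t : LTSeries (PrimeSpectrum R) := (s.map Subtype.val (Subtype.strictMono_coe _)).cons ⟨p, hp.1.1⟩ hlt
    have h1 := Order.LTSeries.length_le_krullDim t
    rw [show Order.krullDim (PrimeSpectrum R) = (d : WithBot ℕ∞) from hd] at h1
    have h2 : t.length = s.length + 1 := by simp [t]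
    rw [h2] at h1
    have h3 : s.length + 1 ≤ d := by exact_mod_cast h1
    exact_mod_cast (by omega : s.length ≤ d - 1)
  obtain ⟨d', hd'⟩ : ∃ d' : ℕ, ringKrullDim Q = d' := by
    obtain ⟨n, hn⟩ := ENat.ne_top_iff_exists.1 (Ideal.height_ne_top (maximalIdeal.isMaximal Q).ne_top)
    exact ⟨n, by rw [← maximalIdeal_height_eq_ringKrullDim, ← hn]; rfl⟩
  have hd'le : d' ≤ d - 1 := by rw [hd'] at hle; exact_mod_cast hle
  obtain ⟨x, hxm, ⟨N, hN⟩, -⟩ := CanElt.exists_sop Q d' hd'
  choose y hy using fun j => Ideal.Quotient.mk_surjective (x j)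
  have hym : ∀ j, y j ∈ maximalIdeal R := fun j => by
    by_contra h
    exact (mem_maximalIdeal _).1 (hxm j) (hy j ▸ (not_not.1 ((mem_maximalIdeal _).not.1 h)).map _)
  let g : Fin (d - 1) → R := fun i => if h : i.1 < d' then y ⟨i, h⟩ ^ (k + 1) else 0
  refine ⟨g, fun i => ?_, fun i => ?_, ?_⟩
  · simp only [g]; split
    · exact Ideal.pow_le_pow_right (Nat.le_succ k) (Ideal.pow_mem_pow (hym _) _)
    · exact zero_mem _
  · simp only [g]; split
    · exact Ideal.pow_le_self (Nat.succ_ne_zero k) (Ideal.pow_mem_pow (hym _) _)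
    · exact zero_mem _
  · set J := Ideal.span (insert f (Set.range g))
    have hfJ : Ideal.span {f} ≤ J.radical :=
      (Ideal.span_singleton_le_iff_mem _).2 (Ideal.le_radical (Ideal.subset_span (Set.mem_insert _ _)))
    have hsub : Ideal.span (Set.range x) ≤ J.radical.map (Ideal.Quotient.mk _) := by
      rw [Ideal.span_le]
      rintro _ ⟨j, rfl⟩
      refine hy j ▸ Ideal.mem_map_of_mem _ ⟨k + 1, ?_⟩
      have hj : (⟨j, lt_of_lt_of_le j.2 hd'le⟩ : Fin (d - 1)).1 < d' := j.2
      refine Ideal.subset_span (Set.mem_insert_of_mem _ ⟨⟨j, lt_of_lt_of_le j.2 hd'le⟩, ?_⟩)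
      simp only [g, dif_pos hj]
    intro a ha
    have h1 : Ideal.Quotient.mk (Ideal.span {f}) a ^ N ∈ J.radical.map (Ideal.Quotient.mk _) := by
      refine hsub (hN (Ideal.pow_mem_pow ?_ N))
      rw [← IsLocalRing.map_maximalIdeal_of_surjective _ (Ideal.Quotient.mk_surjective (I := Ideal.span {f}))]
      exact Ideal.mem_map_of_mem _ ha
    rw [← map_pow, Ideal.mem_quotient_iff_mem_sup, sup_eq_left.2 hfJ] at h1
    exact (Ideal.radical_isRadical J) ⟨N, h1⟩

end Groth.Agent.SopExt1
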